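import Cfsg.Agent.LSU.Chars

/-!
Weight projections and traces.
-/

set_option autoImplicit false
set_option linter.unusedSectionVars false

namespace Cfsg.Agent.LSSL

open Module Cfsg.Agent.H39 Cfsg.Agent.LSU

section weights
variable {A V : Type*} [AddCommGroup A] [Fintype A] [AddCommGroup V] [Module ℂ V]

/-- the projection to a weight space -/
noncomputable def PP (U : A → (V →ₗ[ℂ] V)) (χ : AddChar A ℂ) : V →ₗ[ℂ] V := (Fintype.card A : ℂ)⁻¹ • wtProj U χ

theorem cardA_ne (A : Type*) [AddCommGroup A] [Fintype A] : (Fintype.card A : ℂ) ≠ 0 := by simp [Fintype.card_ne_zero]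

variable {U : A → (V →ₗ[ℂ] V)}

theorem PP_mem (hU : ∀ a b v, U (a + b) v = U a (U b v)) (χ : AddChar A ℂ) (v : V) : PP U χ v ∈ wt U χ :=
  Submodule.smul_mem _ _ (wtProj_mem U hU χ v)

theorem PP_of_mem {χ : AddChar A ℂ} {v : V} (hv : v ∈ wt U χ) : PP U χ v = v := by
  rw [PP, LinearMap.smul_apply, wtProj_of_mem U χ χ v hv, if_pos rfl, smul_smul, inv_mul_cancel₀ (cardA_ne A), one_smul]

theorem PP_of_mem_ne {χ φ : AddChar A ℂ} (h : χ ≠ φ) {v : V} (hv : v ∈ wt U φ) : PP U χ v = 0 := by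
  rw [PP, LinearMap.smul_apply, wtProj_of_mem U χ φ v hv, if_neg h, smul_zero]

theorem sum_PP (h0 : ∀ v, U 0 v = v) (v : V) : ∑ χ, PP U χ v = v := by
  simp only [PP, LinearMap.smul_apply]
  rw [← Finset.smul_sum, sum_wtProj U h0, smul_smul, inv_mul_cancel₀ (cardA_ne A), one_smul]

theorem PP_PP (hU : ∀ a b v, U (a + b) v = U a (U b v)) (χ : AddChar A ℂ) : PP U χ * PP U χ = PP U χ := by
  ext v
  exact PP_of_mem (PP_mem hU χ v)

theorem isProj_PP (hU : ∀ a b v, U (a + b) v = U a (U b v)) (χ : AddChar A ℂ) :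
    LinearMap.IsProj (wt U χ) (PP U χ) :=
  ⟨fun v => PP_mem hU χ v, fun _ hv => PP_of_mem hv⟩

variable [FiniteDimensional ℂ V]

theorem trace_PP (hU : ∀ a b v, U (a + b) v = U a (U b v)) (χ : AddChar A ℂ) :
    LinearMap.trace ℂ V (PP U χ) = finrank ℂ (wt U χ) := (isProj_PP hU χ).trace

theorem trace_eq_sum (h0 : ∀ v, U 0 v = v) (C : V →ₗ[ℂ] V) :
    LinearMap.trace ℂ V C = ∑ χ, LinearMap.trace ℂ V (C * PP U χ) := by
  rw [← map_sum, ← Finset.mul_sum]
  congr 1
  ext v
  rw [Module.End.mul_apply, LinearMap.sum_apply, sum_PP h0]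

theorem trace_mul_PP_of_map (hU : ∀ a b v, U (a + b) v = U a (U b v)) {C : V →ₗ[ℂ] V} {χ φ : AddChar A ℂ}
    (h : χ ≠ φ) (hC : ∀ v ∈ wt U χ, C v ∈ wt U φ) : LinearMap.trace ℂ V (C * PP U χ) = 0 := by
  have h1 : C * PP U χ = (C * PP U χ) * PP U χ := by rw [mul_assoc, PP_PP hU]
  rw [h1, LinearMap.trace_mul_comm]
  have h2 : PP U χ * (C * PP U χ) = 0 := by
    ext v
    rw [Module.End.mul_apply, Module.End.mul_apply, PP_of_mem_ne h (hC _ (PP_mem hU χ v))]; rfl
  rw [h2, map_zero]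

theorem trace_mul_PP_of_smul (hU : ∀ a b v, U (a + b) v = U a (U b v)) {C : V →ₗ[ℂ] V} {χ : AddChar A ℂ} {c : ℂ}
    (hC : ∀ v ∈ wt U χ, C v = c • v) : LinearMap.trace ℂ V (C * PP U χ) = c * finrank ℂ (wt U χ) := by
  have h1 : C * PP U χ = c • PP U χ := by
    ext v
    exact hC _ (PP_mem hU χ v)
  rw [h1, map_smul, trace_PP hU, smul_eq_mul]

theorem trace_U (h0 : ∀ v, U 0 v = v) (hU : ∀ a b v, U (a + b) v = U a (U b v)) (x : A) :
    LinearMap.trace ℂ V (U x) = ∑ χ : AddChar A ℂ, χ x * finrank ℂ (wt U χ) := by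
  rw [trace_eq_sum h0 (U x)]
  refine Finset.sum_congr rfl fun χ _ => ?_
  exact trace_mul_PP_of_smul hU fun v hv => hv x

end weights

/-- every additive character of a finite vector space comes from a linear functional -/
theorem exists_linear {F W : Type*} [Field F] [Fintype F] [AddCommGroup W] [Module F W] {ψ : AddChar F ℂ} (hψ : ψ ≠ 0)
    (φ : AddChar W ℂ) : ∃ l : W →ₗ[F] F, ∀ w, φ w = ψ (l w) := by
  classical
  have hprim := AddChar.IsPrimitive.of_ne_one (ψ := ψ) (by rwa [AddChar.one_eq_zero])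
  have hinj := AddChar.to_mulShift_inj_of_isPrimitive hprim
  have hex : ∀ w : W, ∃ b : F, ∀ y : F, φ (y • w) = ψ (b * y) := by
    intro w
    exact exists_shift hψ
      { toFun := fun y => φ (y • w)
        map_zero_eq_one' := by rw [zero_smul, AddChar.map_zero_eq_one]
        map_add_eq_mul' := fun a b => by rw [add_smul, AddChar.map_add_eq_mul] }
  choose l hl using hex
  have huniq : ∀ b c : F, (∀ y, ψ (b * y) = ψ (c * y)) → b = c := by
    intro b c h
    apply hinj
    ext y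
    rw [AddChar.mulShift_apply, AddChar.mulShift_apply, h]
  refine ⟨{ toFun := l, map_add' := fun a b => ?_, map_smul' := fun c a => ?_ }, fun w => ?_⟩
  · apply huniq
    intro y
    rw [← hl, smul_add, AddChar.map_add_eq_mul, hl, hl, ← AddChar.map_add_eq_mul, add_mul]
  · apply huniq
    intro y
    rw [← hl, smul_smul, hl, RingHom.id_apply, smul_eq_mul]
    congr 1; ring
  · have := hl w 1
    rw [one_smul, mul_one] at this
    exact this

end Cfsg.Agent.LSSL
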